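import Cfsg.Agent.Lib.Spor.Co0Basic

/-!
A faster evaluator of programs on coordinate lists, for kernel checks.
-/

set_option autoImplicit false
set_option maxRecDepth 100000

namespace CfsgLib.Spor.Co1Out

open CfsgLib.Spor

/-- the four entries of each row of the matrix of the involution: column and sign -/
def xiRows : List (List (ℕ × ℤ)) := [
  [(0, -1), (1, 1), (2, 1), (23, 1)],
  [(0, 1), (1, -1), (2, 1), (23, 1)],
  [(0, 1), (1, 1), (2, -1), (23, 1)],
  [(3, 1), (5, -1), (14, -1), (17, -1)],
  [(4, 1), (13, -1), (16, -1), (22, -1)],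
  [(3, -1), (5, 1), (14, -1), (17, -1)],
  [(6, 1), (7, -1), (19, -1), (21, -1)],
  [(6, -1), (7, 1), (19, -1), (21, -1)],
  [(8, 1), (11, -1), (12, -1), (18, -1)],
  [(9, 1), (10, -1), (15, -1), (20, -1)],
  [(9, -1), (10, 1), (15, -1), (20, -1)],
  [(8, -1), (11, 1), (12, -1), (18, -1)],
  [(8, -1), (11, -1), (12, 1), (18, -1)],
  [(4, -1), (13, 1), (16, -1), (22, -1)],
  [(3, -1), (5, -1), (14, 1), (17, -1)],
  [(9, -1), (10, -1), (15, 1), (20, -1)],
  [(4, -1), (13, -1), (16, 1), (22, -1)],
  [(3, -1), (5, -1), (14, -1), (17, 1)],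
  [(8, -1), (11, -1), (12, -1), (18, 1)],
  [(6, -1), (7, -1), (19, 1), (21, -1)],
  [(9, -1), (10, -1), (15, -1), (20, 1)],
  [(6, -1), (7, -1), (19, -1), (21, 1)],
  [(4, -1), (13, -1), (16, -1), (22, 1)],
  [(0, 1), (1, 1), (2, 1), (23, -1)]]

/-- effect of the involution on a list -/
def xiFast (l : List ℤ) : List ℤ :=
  (List.range 24).map fun i => ((xiRows.getD i []).map fun t => t.2 * l.getD t.1 0).sum / 2

theorem xiFast_eq (l : List ℤ) : xiFast l = Stp.xi.run l := by
  simp only [xiFast, Stp.run]
  refine List.map_congr_left fun i hi => ?_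
  congr 1
  have hE : ∀ i < 24, (List.range 24).map (xiE i) = (List.range 24).map fun j =>
      (((xiRows.getD i []).filter fun t => Nat.beq t.1 j).map Prod.snd).sum := by decide +kernel
  have hi' := List.mem_range.1 hi
  have h := List.map_inj_left.1 (hE i hi')
  rw [show ((List.range 24).map fun j => xiE i j * l.getD j 0) = (List.range 24).map fun j =>
    (((xiRows.getD i []).filter fun t => Nat.beq t.1 j).map Prod.snd).sum * l.getD j 0 from
    List.map_congr_left fun j hj => by rw [h j hj]]
  clear h hE hi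
  interval_cases i <;> simp [xiRows, List.range_succ] <;> ring

/-- effect of a step -/
def runS : Stp → List ℤ → List ℤ
  | .xi, l => xiFast l
  | .mono a s, l => (Stp.mono a s).run l

theorem runS_eq : ∀ (st : Stp) (l : List ℤ), runS st l = st.run l
  | .xi, l => xiFast_eq l
  | .mono _ _, _ => rfl

/-- effect of a program, first step first -/
def runF : List Stp → List ℤ → List ℤ
  | [], l => l
  | st :: r, l => runF r (runS st l)

theorem runF_eq : ∀ (P : List Stp) (l : List ℤ), runF P l = runP P l
  | [], _ => rfl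
  | st :: r, l => by rw [runF, runP, runS_eq, runF_eq r]

end CfsgLib.Spor.Co1Out
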