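import Cfsg.Agent.Lib.Spor.Co1Out.Data
import Cfsg.Agent.Lib.Spor.Co1Out.Fast
import Cfsg.Agent.Lib.KnownA.MathieuOut.Packed

/-!
Comparing elements of `Co₀` given by programs, and the three generators as group elements.
-/

set_option autoImplicit false
set_option maxRecDepth 100000

namespace CfsgLib.Spor.Co1Out

open Cfsg CfsgLib.Spor
open CfsgLib.ThreeTransp.CoReduce (bigE)
open CfsgLib.MathieuOut (idP rep_idP)
open scoped Pointwise

/-- the `i`-th coordinate vector, times eight -/
def bigL (i : ℕ) : List ℤ := (List.range 24).map fun k => if Nat.beq k i then 8 else 0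

theorem lOf_bigE (p : GolayPt) :
    lOf ((bigE p : leechLattice) : GolayPt → ℤ) = bigL (idx p) := by
  rw [bigE_coe]
  revert p
  decide +kernel

/-- two programs agree on the coordinate vectors -/
def sameOK (P Q : List Stp) : Bool :=
  (List.range 24).all fun i => decide (runF P (bigL i) = runF Q (bigL i))

theorem eq_of_sameOK {g h : Co0} {P Q : List Stp} (hg : ActsAs g (runP P))
    (hh : ActsAs h (runP Q)) (e : sameOK P Q = true) : g = h := by
  refine co0_ext fun p => Subtype.ext (lOf_inj ?_)
  rw [hg, hh, lOf_bigE]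
  simp only [sameOK, List.all_eq_true, decide_eq_true_eq, List.mem_range, runF_eq] at e
  exact e _ (idx_lt p)

theorem runP_append : ∀ (P Q : List Stp) (l : List ℤ), runP (P ++ Q) l = runP Q (runP P l)
  | [], _, _ => rfl
  | _ :: r, Q, l => runP_append r Q _

theorem actsAs_one : ActsAs 1 (runP []) := fun v => by rw [one_smul]; rfl

theorem actsAs_mul {g h : Co0} {P Q : List Stp} (hg : ActsAs g (runP P))
    (hh : ActsAs h (runP Q)) : ActsAs (g * h) (runP (Q ++ P)) := fun v => by
  rw [(hg.mul hh) v, runP_append]
  rfl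

theorem actsAs_pow {g : Co0} {P : List Stp} (hg : ActsAs g (runP P)) :
    ∀ n : ℕ, ActsAs (g ^ n) (runP (List.replicate n P).flatten)
  | 0 => by simpa using actsAs_one
  | n + 1 => by
    rw [pow_succ, List.replicate_succ, List.flatten_cons]
    exact actsAs_mul (actsAs_pow hg n) hg

theorem actsAs_monoEl {p : MonoIdx} {a s : ℕ} (hr : Rep (p.1 : Equiv.Perm GolayPt)⁻¹ a)
    (hs : (p.2 : Finset GolayPt) = toSet s) : ActsAs (monoEl p) (runP [Stp.mono a s]) := by
  intro v
  rw [monoEl_smul]
  simp only [runP, Stp.run]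
  rw [lOf]
  refine List.map_congr_left fun i hi => ?_
  have hi' := List.mem_range.1 hi
  rw [hr i hi', lOf_getD _ (idx_lt _), pt_idx]
  simp only [signedPerm, hs, mem_toSet, idx_pt hi']
  rfl

theorem actsAs_permEl {σ : ↥M24} {a : ℕ} (hr : Rep (σ : Equiv.Perm GolayPt)⁻¹ a) :
    ActsAs (permEl σ) (runP [Stp.mono a 0]) := actsAs_monoEl hr toSet_zero.symm

/-- the program of the central involution -/
def progNeg : List Stp := [Stp.mono idP 16777215]

theorem actsAs_negEl : ActsAs negEl (runP progNeg) :=
  actsAs_monoEl (by simpa using rep_idP) toSet_full.symm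

/-! ### The generators -/

/-- translation by one -/
def tA : ↥M24 := ⟨gT, gT_mem⟩

/-- the unit two -/
def uTwo : (ZMod 23)ˣ := ⟨2, 12, by decide, by decide⟩

/-- doubling -/
def tB : ↥M24 := ⟨Equiv.optionCongr (Units.mulLeft uTwo),
  mulSquare_mem uTwo ⟨⟨5, 14, by decide, by decide⟩, by decide⟩⟩

theorem rep_tA : Rep (tA : Equiv.Perm GolayPt) gTa := rep_gT

theorem rep_tA_inv : Rep (tA : Equiv.Perm GolayPt)⁻¹ gTi := by decide +kernel

theorem rep_tB : Rep (tB : Equiv.Perm GolayPt) gBa := by decide +kernel

theorem rep_tB_inv : Rep (tB : Equiv.Perm GolayPt)⁻¹ gBi := by decide +kernel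

/-- the program of the translation -/
def progA : List Stp := [Stp.mono gTi 0]

/-- the program of the inverse translation -/
def progA' : List Stp := [Stp.mono gTa 0]

/-- the program of the doubling -/
def progB : List Stp := [Stp.mono gBi 0]

/-- the program of the inverse doubling -/
def progB' : List Stp := [Stp.mono gBa 0]

/-- the translation in `Co₀` -/
def aEl : Co0 := permEl tA

/-- the doubling in `Co₀` -/
def bEl : Co0 := permEl tB

theorem progC_ok : progC.all Stp.ok = true := by decide +kernel

/-- the element of order three -/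
noncomputable def cEl : Co0 := (exists_prog progC_ok).choose

theorem actsAs_a : ActsAs aEl (runP progA) := actsAs_permEl rep_tA_inv

theorem actsAs_a' : ActsAs aEl⁻¹ (runP progA') := by
  rw [aEl, ← permEl_inv]
  exact actsAs_permEl (by simpa using rep_tA)

theorem actsAs_b : ActsAs bEl (runP progB) := actsAs_permEl rep_tB_inv

theorem actsAs_b' : ActsAs bEl⁻¹ (runP progB') := by
  rw [bEl, ← permEl_inv]
  exact actsAs_permEl (by simpa using rep_tB)

theorem actsAs_c : ActsAs cEl (runP progC) := (exists_prog progC_ok).choose_spec.2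

theorem actsAs_cc : ActsAs (cEl * cEl) (runP (progC ++ progC)) := actsAs_mul actsAs_c actsAs_c

end CfsgLib.Spor.Co1Out
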