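import Cfsg.Agent.Lib.Spor.Co1Out.Basic
import Cfsg.Agent.Lib.KnownA.MathieuOut.Main

/-!
The centralisers of the translation and of the doubling in `Co₀`, up to sign.
-/

set_option autoImplicit false
set_option maxRecDepth 100000

namespace CfsgLib.Spor.Co1Out

open Cfsg CfsgLib.Spor
open CfsgLib.ThreeTransp.CoReduce (bigE)
open CfsgLib.MathieuOut (dfs planOK powP normP canon canon_mem_dfs rep_pow canon_eq_normP
  canon_injective stabG_M24)
open scoped Pointwise symmDiff

theorem inLeechB_of_mem {x : GolayPt → ℤ} (hx : x ∈ leechLattice) :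
    inLeechB (lOf x) = true := by
  obtain ⟨m, c, y, hc, rfl, hy⟩ := mem_leechLattice.1 hx
  have hpar : ∀ p, lvec m c y p % 2 = m % 2 := fun p => by simp only [lvec]; omega
  simp only [inLeechB, Bool.and_eq_true, List.all_eq_true, List.mem_range, decide_eq_true_eq]
  rw [lOf_getD _ (by norm_num : (0 : ℕ) < 24), hpar]
  refine ⟨⟨fun i hi => by rw [lOf_getD _ hi, hpar], ?_⟩, ?_⟩
  · obtain ⟨s, hs, hmem⟩ : ∃ s ∈ supports (golayCode : Set (GolayPt → ZMod 2)),
        ∀ p, p ∈ s ↔ (lvec m c y p - m % 2) % 4 = 2 := by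
      have hb : ∀ p, bitZ (c p) = if c p = 0 then 0 else 1 := fun p => by
        generalize c p = z; revert z; decide
      by_cases hm : m % 4 = 0 ∨ m % 4 = 1
      · refine ⟨_, mem_supports_of_code hc, fun p => ?_⟩
        simp only [support₂, Finset.mem_filter, Finset.mem_univ, true_and, lvec, hb]
        split <;> rename_i hcp <;> simp [hcp] <;> omega
      · refine ⟨_, symmDiff_mem_supports (mem_supports_of_code hc) univ_supports, fun p => ?_⟩
        simp only [Finset.mem_symmDiff, support₂, Finset.mem_filter, Finset.mem_univ, not_true,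
          and_false, true_and, false_or, not_not, lvec, hb]
        split <;> rename_i hcp <;> simp [hcp] <;> omega
    have e : mask s = Nat.ofBits fun i : Fin 24 =>
        decide (((lOf (lvec m c y)).getD i 0 - m % 2) % 4 = 2) := by
      rw [mask]
      congr 1
      funext i
      rw [lOf_getD _ i.2]
      exact decide_eq_decide.2 (hmem _)
    convert mem_supports_iff_inCode.1 hs using 2
    simp only [e]
  · rw [show ((List.range 24).map fun i => (lOf (lvec m c y)).getD i 0).sum =
        ∑ p, lvec m c y p from ?_]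
    · rw [sum_lvec]
      obtain ⟨t, ht⟩ := four_dvd_sum_bitZ hc
      rw [ht]
      omega
    · rw [sum_pt]
      exact congrArg List.sum (List.map_congr_left fun i hi =>
        lOf_getD _ (List.mem_range.1 hi))

/-- the list is a coordinate vector times `±8` -/
def stdOne (l : List ℤ) : Bool :=
  (List.range 24).any fun i => decide (l = bigL i) || decide (l = (bigL i).map fun a => -a)

theorem lOf_neg_bigE (p : GolayPt) :
    lOf (Pi.single p (-8) : GolayPt → ℤ) = (bigL (idx p)).map fun a => -a := by
  revert p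
  decide +kernel

theorem stdOne_iff {g : Co0} : stdOne (lOf ((g • eTop : leechLattice) : GolayPt → ℤ)) = true ↔
    g ∈ crossStab := by
  constructor
  · intro h
    obtain ⟨i, hi, h⟩ := List.any_eq_true.1 h
    have hi' := List.mem_range.1 hi
    refine mem_crossStab_of_top ?_
    simp only [Bool.or_eq_true, decide_eq_true_eq] at h
    rcases h with h | h
    · exact ⟨pt i, 8, Or.inl rfl, lOf_inj (by
        rw [h, ← bigE_coe, lOf_bigE, idx_pt hi'])⟩
    · exact ⟨pt i, -8, Or.inr rfl, lOf_inj (by rw [h, lOf_neg_bigE, idx_pt hi'])⟩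
  · intro h
    obtain ⟨i, s, hs, e⟩ := mem_crossStab.1 h eTop (bigE_mem_stdCross none)
    refine List.any_eq_true.2 ⟨idx i, List.mem_range.2 (idx_lt i), ?_⟩
    rw [e]
    simp only [Bool.or_eq_true, decide_eq_true_eq]
    rcases hs with rfl | rfl
    · left; rw [← lOf_bigE, bigE_coe]
    · right; rw [lOf_neg_bigE]

/-- a permutation fixing the last point fixes its vector, so commuting elements move it to fixed
vectors -/
theorem top_fixed {σ : ↥M24} (hσ : (σ : Equiv.Perm GolayPt) none = none) {g : Co0}
    (hcomm : g * permEl σ = permEl σ * g) (p : GolayPt) :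
    ((g • eTop : leechLattice) : GolayPt → ℤ) ((σ : Equiv.Perm GolayPt).symm p) =
      ((g • eTop : leechLattice) : GolayPt → ℤ) p := by
  have hfix : permEl σ • eTop = eTop := Subtype.ext (by
    rw [permEl, monoEl_smul, eTop_coe, signedPerm_single, if_neg (Finset.notMem_empty _), hσ])
  have h := congrArg (fun x : Co0 => ((x • eTop : leechLattice) : GolayPt → ℤ) p) hcomm
  simp only [mul_smul, hfix] at h
  rw [permEl, monoEl_smul, signedPerm_empty_apply] at h
  exact h.symm

theorem mono_comm {σ τ : ↥M24} {e : ↥(supports (golayCode : Set (GolayPt → ZMod 2)))}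
    (hcomm : monoEl (τ, e) * permEl σ = permEl σ * monoEl (τ, e)) :
    (τ : Equiv.Perm GolayPt) * σ = σ * τ ∧
      (σ : Equiv.Perm GolayPt) • (e : Finset GolayPt) = e := by
  rw [permEl, monoEl_mul, monoEl_mul] at hcomm
  have h := monoEl_injective hcomm
  refine ⟨congrArg (fun q : MonoIdx => (q.1 : Equiv.Perm GolayPt)) h, ?_⟩
  have h2 := congrArg (fun q : MonoIdx => (q.2 : Finset GolayPt)) h
  simp only [Finset.smul_finset_empty] at h2
  rw [show (e : Finset GolayPt) ∆ ∅ = e from symmDiff_bot _, show
    (∅ : Finset GolayPt) ∆ ((σ : Equiv.Perm GolayPt) • (e : Finset GolayPt)) = _ from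
    bot_symmDiff _] at h2
  exact h2.symm

theorem iter_const {α : Type*} {σ : Equiv.Perm GolayPt} {f : GolayPt → α}
    (hf : ∀ p, f (σ.symm p) = f p) (n : ℕ) (p : GolayPt) : f ((σ ^ n) p) = f p := by
  induction n with
  | zero => simp
  | succ n ih => rw [pow_succ', Equiv.Perm.mul_apply, ← hf, Equiv.symm_apply_apply, ih]

theorem mem_smul_self {σ : Equiv.Perm GolayPt} {e : Finset GolayPt} (h : σ • e = e)
    (p : GolayPt) : decide (σ.symm p ∈ e) = decide (p ∈ e) := by
  refine decide_eq_decide.2 ?_
  conv_rhs => rw [← h, mem_smul_iff]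

/-- the residues that are squares -/
def qrMask : ℕ := 340830

theorem orbit_tA : ∀ z : ZMod 23,
    ∃ k < 23, ((tA : Equiv.Perm GolayPt) ^ k) (some 0) = some z := by decide +kernel

theorem orbit_tB : ∀ z : ZMod 23, z ≠ 0 → ∃ k < 11, ((tB : Equiv.Perm GolayPt) ^ k)
    (some (if qrMask.testBit z.val then 1 else 5)) = some z := by decide +kernel

theorem tA_none : (tA : Equiv.Perm GolayPt) none = none := rfl

theorem tB_none : (tB : Equiv.Perm GolayPt) none = none := rfl

/-! ### Permutations commuting with the two generators -/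

/-- search plan for the translation -/
def planA : List (ℕ × ℕ × List ℕ) := [(0, 23, []), (23, 1, golayBasis)]

/-- search plan for the doubling -/
def planB : List (ℕ × ℕ × List ℕ) := [(1, 11, []), (5, 11, []), (0, 1, []), (23, 1, golayBasis)]

theorem planA_ok : planOK gTa planA [] = true ∧
    ((dfs [] [] gTa gTa planA []).all fun z =>
      (List.range 23).any fun t => Nat.beq z (normP (powP gTa t))) = true := by decide +kernel

theorem planB_ok : planOK gBa planB [] = true ∧
    ((dfs [] [] gBa gBa planB []).all fun z =>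
      (List.range 11).any fun t => Nat.beq z (normP (powP gBa t))) = true := by decide +kernel

theorem eq_pow_of_comm {U : ↥M24} {u n : ℕ} {plan : List (ℕ × ℕ × List ℕ)}
    (hu : Rep (U : Equiv.Perm GolayPt) u)
    (h : planOK u plan [] = true ∧ ((dfs [] [] u u plan []).all fun z =>
      (List.range n).any fun t => Nat.beq z (normP (powP u t))) = true)
    {τ : ↥M24} (hc : (τ : Equiv.Perm GolayPt) * U = U * τ) : ∃ t : ℕ, τ = U ^ t := by
  have hs : (τ : Equiv.Perm GolayPt) ∈ CfsgLib.Spor.stabG [] [] := by
    rw [stabG_M24]; exact τ.2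
  have hmem := canon_mem_dfs h.1 hs (by simp) hu hu hc
  obtain ⟨t, -, ht⟩ := List.any_eq_true.1 (List.all_eq_true.1 h.2 _ hmem)
  rw [Nat.beq_eq, ← canon_eq_normP (rep_pow hu t)] at ht
  exact ⟨t, Subtype.ext (by simpa using canon_injective ht)⟩

/-! ### Centraliser of the translation -/

theorem sign_tA {e : Finset GolayPt}
    (he : e ∈ supports (golayCode : Set (GolayPt → ZMod 2)))
    (h : (tA : Equiv.Perm GolayPt) • e = e) : e = ∅ ∨ e = Finset.univ := by
  have hall : ∀ z : ZMod 23, (some z ∈ e ↔ some 0 ∈ e) := fun z => by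
    obtain ⟨k, -, hk⟩ := orbit_tA z
    have h1 := iter_const (f := fun p => decide (p ∈ e)) (mem_smul_self h) k (some 0)
    rw [hk] at h1
    exact decide_eq_decide.1 h1
  have hchk : ∀ a b : Bool, inCode ((if a then 8388608 else 0) ||| (if b then 8388607 else 0)) =
      true → a = b := by decide +kernel
  obtain ⟨a, ha⟩ : ∃ a : Bool, (none ∈ e ↔ a = true) := ⟨decide (none ∈ e), by simp⟩
  obtain ⟨b, hb⟩ : ∃ b : Bool, (some 0 ∈ e ↔ b = true) := ⟨decide (some 0 ∈ e), by simp⟩
  have heq : e = toSet ((if a then 8388608 else 0) ||| (if b then 8388607 else 0)) := by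
    have hbits : ∀ a b : Bool, ∀ p : GolayPt,
        ((if a then 8388608 else 0) ||| (if b then 8388607 else 0) : ℕ).testBit (idx p) =
          (match p with | none => a | some _ => b) := by decide +kernel
    ext p
    rw [mem_toSet, hbits]
    cases p with
    | none => exact ha
    | some z => exact (hall z).trans hb
  have hab := hchk a b (by
    have := mem_supports_iff_inCode.1 he
    rwa [heq, mask_toSet (by cases a <;> cases b <;> decide)] at this)
  subst hab
  cases a
  · left; rw [heq]; exact toSet_zero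
  · right; rw [heq]; exact toSet_full

theorem cent_a {g : Co0} (hcomm : g * aEl = aEl * g) :
    ∃ t : ℕ, g = aEl ^ t ∨ g = negEl * aEl ^ t := by
  set v : GolayPt → ℤ := ((g • eTop : leechLattice) : GolayPt → ℤ) with hv
  have hinv : ∀ p, v ((tA : Equiv.Perm GolayPt).symm p) = v p := top_fixed tA_none hcomm
  have hall : ∀ z : ZMod 23, v (some z) = v (some 0) := fun z => by
    obtain ⟨k, -, hk⟩ := orbit_tA z
    rw [← hk, iter_const hinv]
  have hn := (coe_smul_sqNorm g eTop).trans (sqNorm_bigE none)
  rw [← hv, sqNorm, Fintype.sum_option] at hn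
  simp only [hall, Finset.sum_const, Finset.card_univ, ZMod.card, nsmul_eq_mul] at hn
  push_cast at hn
  have hb : v (some 0) = 0 := by
    by_contra hne
    have h1 : -2 < v (some 0) := by nlinarith [sq_nonneg (v none)]
    have h2 : v (some 0) < 2 := by nlinarith [sq_nonneg (v none)]
    generalize v (some 0) = b at hne h1 h2 hn
    have h41 : v none ^ 2 = 41 := by interval_cases b <;> simp at hne <;> linarith
    have hlo : -7 < v none := by nlinarith
    have hhi : v none < 7 := by nlinarith
    generalize v none = a at h41 hlo hhi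
    interval_cases a <;> norm_num at h41
  rw [hb] at hn
  have h8 : v none = 8 ∨ v none = -8 := by
    have : (v none - 8) * (v none + 8) = 0 := by linear_combination hn
    rcases mul_eq_zero.1 this with e | e
    · left; linarith
    · right; linarith
  have hg : g ∈ crossStab := mem_crossStab_of_top ⟨none, v none, h8, funext fun p => by
    cases p with
    | none => simp [hv]
    | some z => rw [Pi.single_eq_of_ne (Option.some_ne_none z)]; exact (hall z).trans hb⟩
  obtain ⟨⟨τ, e⟩, rfl⟩ := exists_monoEl_of_mem hg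
  obtain ⟨hτ, he⟩ := mono_comm hcomm
  obtain ⟨t, rfl⟩ := eq_pow_of_comm rep_tA planA_ok hτ
  refine ⟨t, ?_⟩
  rw [aEl, ← permEl_pow]
  rcases sign_tA e.2 he with h0 | h1
  · left; rw [permEl]; congr 1; exact Prod.ext rfl (Subtype.ext h0)
  · right
    rw [negEl, permEl, monoEl_mul]
    congr 1
    refine Prod.ext (one_mul _).symm (Subtype.ext ?_)
    simp [h1, show (Finset.univ : Finset GolayPt) ∆ ∅ = _ from symmDiff_bot _]

/-! ### Centraliser of the doubling -/

/-- a vector constant on the squares and on the nonsquares -/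
def vec4 (x y p q : ℤ) : List ℤ := (List.range 24).map fun i =>
  if Nat.beq i 23 then x else if Nat.beq i 0 then y else if qrMask.testBit i then p else q

/-- the four-parameter mask -/
def mask4 (a b c d : Bool) : ℕ :=
  (if a then 8388608 else 0) ||| (if b then 1 else 0) ||| (if c then qrMask else 0) |||
    (if d then 8047776 else 0)

/-- the vector is moved to the standard cross by a power of the element of order three -/
def reachOK (l : List ℤ) : Bool :=
  stdOne l || stdOne (runF progC l) || stdOne (runF (progC ++ progC) l)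

theorem cand_ok : ((List.range 17).all fun x => (List.range 17).all fun y =>
    (List.range 5).all fun p => (List.range 5).all fun q =>
      !(decide (((x : ℤ) - 8) ^ 2 + ((y : ℤ) - 8) ^ 2 + 11 * ((p : ℤ) - 2) ^ 2 +
          11 * ((q : ℤ) - 2) ^ 2 = 64))
      || !inLeechB (vec4 ((x : ℤ) - 8) ((y : ℤ) - 8) ((p : ℤ) - 2) ((q : ℤ) - 2))
      || reachOK (vec4 ((x : ℤ) - 8) ((y : ℤ) - 8) ((p : ℤ) - 2) ((q : ℤ) - 2))) = true := by
  decide +kernel

theorem sign_tB {e : Finset GolayPt}
    (he : e ∈ supports (golayCode : Set (GolayPt → ZMod 2)))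
    (h : (tB : Equiv.Perm GolayPt) • e = e) :
    e = toSet 0 ∨ e = toSet 16777215 ∨ e = toSet 340831 ∨ e = toSet 16436384 := by
  have hchk : ∀ a b c d : Bool, inCode (mask4 a b c d) = true →
      mask4 a b c d = 0 ∨ mask4 a b c d = 16777215 ∨ mask4 a b c d = 340831 ∨
        mask4 a b c d = 16436384 := by decide +kernel
  have hbits : ∀ a b c d : Bool, ∀ p : GolayPt, (mask4 a b c d).testBit (idx p) =
      (match p with
        | none => a
        | some z => if z = 0 then b else if qrMask.testBit z.val then c else d) := by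
    decide +kernel
  have hlt : ∀ a b c d : Bool, mask4 a b c d < 2 ^ 24 := by decide +kernel
  obtain ⟨f, hf⟩ : ∃ f : GolayPt → Bool, ∀ p, f p = decide (p ∈ e) := ⟨_, fun _ => rfl⟩
  have hinv : ∀ p, f ((tB : Equiv.Perm GolayPt).symm p) = f p := fun p => by
    rw [hf, hf]; exact mem_smul_self h p
  have heq : e = toSet (mask4 (f none) (f (some 0)) (f (some 1)) (f (some 5))) := by
    ext p
    rw [mem_toSet, hbits]
    cases p with
    | none => simp [hf]
    | some z =>
      rcases eq_or_ne z 0 with rfl | hz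
      · simp [hf]
      · obtain ⟨k, -, hk⟩ := orbit_tB z hz
        have h1 := iter_const hinv k (some (if qrMask.testBit z.val then 1 else 5))
        rw [hk, hf] at h1
        simp only [if_neg hz]
        by_cases hq : qrMask.testBit z.val = true
        · rw [if_pos hq] at h1; simp [hq, ← h1]
        · rw [if_neg hq] at h1; simp [hq, ← h1]
  have := hchk _ _ _ _ (by
    have := mem_supports_iff_inCode.1 he
    rwa [heq, mask_toSet (hlt _ _ _ _)] at this)
  rcases this with h0 | h0 | h0 | h0 <;> rw [h0] at heq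
  · exact Or.inl heq
  · exact Or.inr (Or.inl heq)
  · exact Or.inr (Or.inr (Or.inl heq))
  · exact Or.inr (Or.inr (Or.inr heq))

theorem cross_of_comm_b {g : Co0} (hcomm : g * bEl = bEl * g) :
    g ∈ crossStab ∨ cEl * g ∈ crossStab ∨ cEl * cEl * g ∈ crossStab := by
  set v : GolayPt → ℤ := ((g • eTop : leechLattice) : GolayPt → ℤ) with hv
  have hinv : ∀ p, v ((tB : Equiv.Perm GolayPt).symm p) = v p := top_fixed tB_none hcomm
  have hz : ∀ z : ZMod 23, z ≠ 0 →
      v (some z) = if qrMask.testBit z.val then v (some 1) else v (some 5) := fun z hz => by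
    obtain ⟨k, -, hk⟩ := orbit_tB z hz
    conv_lhs => rw [← hk, iter_const hinv]
    split <;> rfl
  have hl : lOf v = vec4 (v none) (v (some 0)) (v (some 1)) (v (some 5)) := by
    rw [vec4, lOf]
    refine List.map_congr_left fun i hi => ?_
    have hi' := List.mem_range.1 hi
    have hcases : ∀ i < 24, (pt i = none ∧ i = 23) ∨ (pt i = some 0 ∧ i = 0) ∨
        (i ≠ 23 ∧ i ≠ 0 ∧ ∃ z : ZMod 23, z ≠ 0 ∧ pt i = some z ∧ z.val = i) := by decide +kernel
    rcases hcases i hi' with ⟨h1, rfl⟩ | ⟨h1, rfl⟩ | ⟨h2, h3, z, hz0, h1, rfl⟩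
    · rw [h1]; rfl
    · rw [h1]; rfl
    · rw [h1, hz z hz0]; simp [h2, h3]
  have hn := (coe_smul_sqNorm g eTop).trans (sqNorm_bigE none)
  rw [← hv] at hn
  have hn' : v none ^ 2 + v (some 0) ^ 2 + 11 * v (some 1) ^ 2 + 11 * v (some 5) ^ 2 = 64 := by
    rw [← hn, sqNorm, sum_pt]
    have e : ((List.range 24).map fun j => v (pt j) ^ 2) =
        (vec4 (v none) (v (some 0)) (v (some 1)) (v (some 5))).map (· ^ 2) := by
      rw [← hl, lOf, List.map_map]; rfl
    rw [e]
    simp [vec4, qrMask, List.range_succ, Nat.testBit, Nat.shiftRight_eq_div_pow]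
    ring
  have hmem : inLeechB (lOf v) = true := inLeechB_of_mem (g • eTop : leechLattice).2
  have hreach : reachOK (lOf v) = true := by
    rw [hl] at hmem ⊢
    generalize v none = x, v (some 0) = y, v (some 1) = p, v (some 5) = q at hn' hmem ⊢
    obtain ⟨x', hx', rfl⟩ : ∃ n : ℕ, n < 17 ∧ x = (n : ℤ) - 8 :=
      ⟨(x + 8).toNat, by
        have : -9 < x ∧ x < 9 := ⟨by nlinarith, by nlinarith⟩
        omega, by
        have : -9 < x ∧ x < 9 := ⟨by nlinarith, by nlinarith⟩
        omega⟩
    obtain ⟨y', hy', rfl⟩ : ∃ n : ℕ, n < 17 ∧ y = (n : ℤ) - 8 :=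
      ⟨(y + 8).toNat, by
        have : -9 < y ∧ y < 9 := ⟨by nlinarith, by nlinarith⟩
        omega, by
        have : -9 < y ∧ y < 9 := ⟨by nlinarith, by nlinarith⟩
        omega⟩
    obtain ⟨p', hp', rfl⟩ : ∃ n : ℕ, n < 5 ∧ p = (n : ℤ) - 2 :=
      ⟨(p + 2).toNat, by
        have : -3 < p ∧ p < 3 := ⟨by nlinarith, by nlinarith⟩
        omega, by
        have : -3 < p ∧ p < 3 := ⟨by nlinarith, by nlinarith⟩
        omega⟩
    obtain ⟨q', hq', rfl⟩ : ∃ n : ℕ, n < 5 ∧ q = (n : ℤ) - 2 :=
      ⟨(q + 2).toNat, by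
        have : -3 < q ∧ q < 3 := ⟨by nlinarith, by nlinarith⟩
        omega, by
        have : -3 < q ∧ q < 3 := ⟨by nlinarith, by nlinarith⟩
        omega⟩
    have h := List.all_eq_true.1 cand_ok x' (List.mem_range.2 hx')
    have h' := List.all_eq_true.1 (List.all_eq_true.1 (List.all_eq_true.1 h y'
      (List.mem_range.2 hy')) p' (List.mem_range.2 hp')) q' (List.mem_range.2 hq')
    simpa [hn', hmem] using h'
  simp only [reachOK, Bool.or_eq_true, runF_eq] at hreach
  rw [hv] at hreach
  rw [← actsAs_c, ← actsAs_cc, ← mul_smul, ← mul_smul, stdOne_iff, stdOne_iff, stdOne_iff,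
    or_assoc] at hreach
  exact hreach

/-- the sign change on the dodecad of squares -/
def epsD : Co0 := epsEl ⟨toSet 340831, toSet_supports_of_inCode (by decide +kernel) (by norm_num)⟩

theorem actsAs_epsD : ActsAs epsD (runP [Stp.mono CfsgLib.MathieuOut.idP 340831]) :=
  actsAs_monoEl (by simpa using CfsgLib.MathieuOut.rep_idP) rfl

theorem cross_comm_b {g : Co0} (hg : g ∈ crossStab) (hcomm : g * bEl = bEl * g) :
    ∃ t : ℕ, g = bEl ^ t ∨ g = negEl * bEl ^ t ∨ g = epsD * bEl ^ t ∨
      g = negEl * epsD * bEl ^ t := by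
  obtain ⟨⟨τ, e⟩, rfl⟩ := exists_monoEl_of_mem hg
  obtain ⟨hτ, he⟩ := mono_comm hcomm
  obtain ⟨t, rfl⟩ := eq_pow_of_comm rep_tB planB_ok hτ
  have hsplit : monoEl (tB ^ t, e) = epsEl e * bEl ^ t := by
    rw [bEl, ← permEl_pow, epsEl, permEl, monoEl_mul]
    congr 1
    exact Prod.ext (one_mul _).symm (Subtype.ext (by
      simp [Finset.smul_finset_empty, show (e : Finset GolayPt) ∆ ∅ = e from symmDiff_bot _]))
  refine ⟨t, ?_⟩
  rw [hsplit]
  rcases sign_tB e.2 he with h | h | h | h
  · left
    rw [show epsEl e = 1 from eq_of_sameOK (actsAs_monoEl (s := 0)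
      (by simpa using CfsgLib.MathieuOut.rep_idP) h) actsAs_one (by decide +kernel), one_mul]
  · right; left
    rw [show epsEl e = negEl from eq_of_sameOK (actsAs_monoEl (s := 16777215)
      (by simpa using CfsgLib.MathieuOut.rep_idP) h) actsAs_negEl (by decide +kernel)]
  · right; right; left
    rw [show epsEl e = epsD from eq_of_sameOK (actsAs_monoEl (s := 340831)
      (by simpa using CfsgLib.MathieuOut.rep_idP) h) actsAs_epsD (by decide +kernel)]
  · right; right; right
    rw [show epsEl e = negEl * epsD from eq_of_sameOK (actsAs_monoEl (s := 16436384)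
      (by simpa using CfsgLib.MathieuOut.rep_idP) h) (actsAs_mul actsAs_negEl actsAs_epsD)
      (by decide +kernel)]

end CfsgLib.Spor.Co1Out
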