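import Cfsg.Agent.Lib.Spor.Co1Simple

/-!
Programs for three generators of the Conway group `Co₁`: the translation `z ↦ z + 1`, the
doubling `z ↦ 2 z` and an element of order three commuting with the doubling, not fixing the
standard cross.
-/

set_option autoImplicit false

namespace CfsgLib.Spor.Co1Out

open Cfsg CfsgLib.Spor

/-- packed doubling -/
def gBa : ℕ := 983435072843990828779021698901151808

/-- packed inverse translation -/
def gTi : ℕ := 983478296959358443554250846857397270

/-- packed inverse doubling -/
def gBi : ℕ := 970567384681219435340729552166356352

/-- the program of the element of order three -/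
def progC : List Stp := [
  .mono 389043813016221857241051996103249968 10231145,
  .xi,
  .mono 213231007917778800345220689460476341 16771936,
  .xi,
  .mono 589471951894794593846060479408757322 7783138,
  .xi,
  .mono 970519728273654802127690041468049642 4713491]

/-- a word fixing the standard cross -/
def monoWord : List ℕ := [5, 1, 3, 1, 5, 0, 4, 3, 0, 3, 5, 0, 4, 1, 1, 4]

/-- its packed permutation part -/
def monoA : ℕ := 25298920570170237141860150212432146

/-- the inverse of its packed permutation part -/
def monoAi : ℕ := 556399341314538832041219952105330967

/-- its sign part -/
def monoS : ℕ := 11073091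

/-- the signs of the twelfth power of the monomial word -/
def signS : ℕ := 12051189

/-- `x ↦ -1/x` in the three permutations and their inverses -/
def wordI : List ℕ := [1, 2, 5, 2, 5, 3, 3, 5, 1, 2, 4, 3, 3]

/-- the cube twist in the three permutations and their inverses -/
def wordC : List ℕ := [2, 0, 5, 3, 3, 4, 1, 3, 5, 5, 3, 5]

end CfsgLib.Spor.Co1Out
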