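import Cfsg.Agent.Lib.Spor.Co1Out.Relator

/-!
The outer automorphism group of `Co₁` is trivial.
-/

set_option autoImplicit false
set_option maxRecDepth 100000

namespace CfsgLib.Spor.Co1Out

open Cfsg CfsgLib.Spor
open CfsgLib.MathieuOut (evalW rep_evalW eqP eqP_iff idP rep_idP natCard_out_le)
open scoped Pointwise symmDiff

/-- the projection to `Co₁` -/
abbrev prj : Co0 →* Cfsg.Spor.Co1 := QuotientGroup.mk' (Subgroup.center Co0)

theorem prj_negEl : prj negEl = 1 :=
  (QuotientGroup.eq_one_iff negEl).2 negEl_central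

/-- image of the translation -/
def aBar : Cfsg.Spor.Co1 := prj aEl

/-- image of the doubling -/
def bBar : Cfsg.Spor.Co1 := prj bEl

/-- image of the element of order three -/
noncomputable def cBar : Cfsg.Spor.Co1 := prj cEl

/-- image of the dodecad sign change -/
def eBar : Cfsg.Spor.Co1 := prj epsD

theorem eq_one_or_neg {g : Co0} (h : prj g = 1) : g = 1 ∨ g = negEl :=
  eq_of_central ((QuotientGroup.eq_one_iff g).1 h)

/-- an element of odd order commutes exactly if it commutes up to sign -/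
theorem comm_lift {g x : Co0} {n : ℕ} (hn : Odd n) (hx : x ^ n = 1)
    (h : prj g * prj x = prj x * prj g) : g * x = x * g := by
  have h1 : prj (g * x * g⁻¹ * x⁻¹) = 1 := by
    rw [map_mul, map_mul, map_mul, map_inv, map_inv, h]; group
  set z := g * x * g⁻¹ * x⁻¹ with hz
  have hzc : z ∈ Subgroup.center Co0 := (QuotientGroup.eq_one_iff _).1 h1
  have hconj : g * x * g⁻¹ = z * x := by rw [hz]; group
  have hzx : Commute z x := (Subgroup.mem_center_iff.1 hzc x).symm
  have hzn : z ^ n = 1 := by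
    have h2 := congrArg (· ^ n) hconj
    simp only [conj_pow, hzx.mul_pow, hx, mul_one, mul_inv_cancel] at h2
    exact h2.symm
  have hz2 : z ^ 2 = 1 := by
    rcases eq_of_central hzc with e | e <;> rw [e]
    · exact one_pow 2
    · rw [pow_two]
      exact eq_of_sameOK (actsAs_mul actsAs_negEl actsAs_negEl) actsAs_one (by decide +kernel)
  have hz1 : z = 1 := by
    obtain ⟨k, rfl⟩ := hn
    rwa [pow_succ, pow_mul, hz2, one_pow, one_mul] at hzn
  rw [hz1, one_mul] at hconj
  exact mul_inv_eq_iff_eq_mul.1 hconj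

theorem aEl_pow : aEl ^ 23 = 1 := by
  rw [aEl, ← permEl_pow, show tA ^ 23 = 1 from orderOf_gT ▸ pow_orderOf_eq_one tA, permEl_one]

theorem bEl_pow : bEl ^ 11 = 1 :=
  eq_of_sameOK (actsAs_pow actsAs_b 11) actsAs_one (by decide +kernel)

theorem orderOf_aBar : orderOf aBar = 23 := by
  have : Fact (Nat.Prime 23) := ⟨by norm_num⟩
  refine orderOf_eq_prime (by rw [aBar, ← map_pow, aEl_pow, map_one]) fun h => ?_
  rcases eq_one_or_neg h with e | e
  · have := congrArg Prod.fst (monoEl_injective (e.trans monoEl_one.symm))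
    have h2 := orderOf_gT
    rw [show (⟨gT, gT_mem⟩ : ↥M24) = 1 from this, orderOf_one] at h2
    norm_num at h2
  · have := congrArg Prod.fst (monoEl_injective (show monoEl _ = monoEl _ from e))
    have h2 := orderOf_gT
    rw [show (⟨gT, gT_mem⟩ : ↥M24) = 1 from this, orderOf_one] at h2
    norm_num at h2

theorem bab : bBar * aBar * bBar⁻¹ = aBar ^ 2 := by
  have h : bEl * aEl = aEl ^ 2 * bEl :=
    eq_of_sameOK (actsAs_mul actsAs_b actsAs_a)
      (actsAs_mul (actsAs_pow actsAs_a 2) actsAs_b) (by decide +kernel)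
  rw [bBar, aBar, mul_inv_eq_iff_eq_mul, ← map_pow, ← map_mul, ← map_mul, h]

theorem cb : cBar * bBar = bBar * cBar := by
  rw [cBar, bBar, ← map_mul, ← map_mul]
  exact congrArg _ (eq_of_sameOK (actsAs_mul actsAs_c actsAs_b) (actsAs_mul actsAs_b actsAs_c)
    (by decide +kernel))

theorem c_cube : cBar ^ 3 = 1 := by
  rw [cBar, ← map_pow, show cEl ^ 3 = 1 from
    eq_of_sameOK (actsAs_pow actsAs_c 3) actsAs_one (by decide +kernel), map_one]

theorem cEl_not_mem : cEl ∉ crossStab := by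
  rw [← stdOne_iff, actsAs_c, lOf_eTop]
  decide +kernel

theorem c_ne_one : cBar ≠ 1 := fun h => cEl_not_mem <| by
  rcases eq_one_or_neg h with e | e <;> rw [e]
  exacts [one_mem _, monoEl_mem_crossStab _]

theorem cc_eq : cBar * cBar = cBar⁻¹ :=
  eq_inv_of_mul_eq_one_left (by rw [← c_cube, pow_succ, pow_two])

theorem ece : eBar * cBar * eBar = cBar⁻¹ := by
  rw [← cc_eq, eBar, cBar, ← map_mul, ← map_mul, ← map_mul,
    eq_of_sameOK (actsAs_mul (actsAs_mul actsAs_epsD actsAs_c) actsAs_epsD) actsAs_cc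
      (by decide +kernel)]

theorem eb : eBar * bBar = bBar * eBar := by
  rw [eBar, bBar, ← map_mul, ← map_mul, eq_of_sameOK (actsAs_mul actsAs_epsD actsAs_b)
    (actsAs_mul actsAs_b actsAs_epsD) (by decide +kernel)]

theorem ee : eBar * eBar = 1 := by
  rw [eBar, ← map_mul, eq_of_sameOK (actsAs_mul actsAs_epsD actsAs_epsD) actsAs_one
    (by decide +kernel), map_one]

/-- the centraliser of the translation in `Co₁` -/
theorem cent_aBar (x : Cfsg.Spor.Co1) (h : x * aBar = aBar * x) : ∃ t : ℕ, x = aBar ^ t := by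
  obtain ⟨g, rfl⟩ := QuotientGroup.mk'_surjective _ x
  obtain ⟨t, e | e⟩ := cent_a (comm_lift ⟨11, rfl⟩ aEl_pow h) <;> refine ⟨t, ?_⟩ <;> subst e
  · rw [aBar, ← map_pow]
  · rw [map_mul, prj_negEl, one_mul, map_pow]; rfl

/-- the centraliser of the doubling in `Co₁` -/
theorem cent_bBar (x : Cfsg.Spor.Co1) (h : x * bBar = bBar * x) :
    ∃ j t : ℕ, x = cBar ^ j * bBar ^ t ∨ x = cBar ^ j * eBar * bBar ^ t := by
  obtain ⟨g, rfl⟩ := QuotientGroup.mk'_surjective _ x
  have hg := comm_lift ⟨5, rfl⟩ bEl_pow h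
  have hc : Commute cEl bEl :=
    eq_of_sameOK (actsAs_mul actsAs_c actsAs_b) (actsAs_mul actsAs_b actsAs_c) (by decide +kernel)
  have main : ∀ i j : ℕ, cBar ^ j * cBar ^ i = 1 → cEl ^ i * g ∈ crossStab →
      ∃ j t : ℕ, prj g = cBar ^ j * bBar ^ t ∨ prj g = cBar ^ j * eBar * bBar ^ t := by
    intro i j hij hmem
    have hcomm : cEl ^ i * g * bEl = bEl * (cEl ^ i * g) := by
      have h1 : Commute (cEl ^ i) bEl := hc.pow_left i
      exact (h1.mul_left hg).eq
    obtain ⟨t, ht⟩ := cross_comm_b hmem hcomm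
    have hg' : prj g = cBar ^ j * prj (cEl ^ i * g) := by
      rw [map_mul, map_pow, ← mul_assoc, show prj cEl = cBar from rfl, hij, one_mul]
    refine ⟨j, t, ?_⟩
    rw [hg']
    rcases ht with e | e | e | e <;> rw [e] <;>
      simp only [map_mul, map_pow, prj_negEl, one_mul] <;>
      first
        | exact Or.inl rfl
        | exact Or.inr (mul_assoc _ _ _).symm
  rcases cross_of_comm_b hg with h0 | h0 | h0
  · exact main 0 0 (by simp) (by simpa using h0)
  · exact main 1 2 (by rw [← pow_add]; exact c_cube) (by simpa using h0)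
  · exact main 2 1 (by rw [← pow_add]; exact c_cube) (by rwa [pow_two])

theorem three_elements (x : Cfsg.Spor.Co1) (hx : x ^ 3 = 1) (hx1 : x ≠ 1)
    (hb : x * bBar = bBar * x) : x = cBar ∨ x = cBar⁻¹ := by
  have hcb : Commute cBar bBar := cb
  have heb : Commute eBar bBar := eb
  have hb11 : bBar ^ 11 = 1 := by rw [bBar, ← map_pow, bEl_pow, map_one]
  obtain ⟨j, t, e | e⟩ := cent_bBar x hb
  · have hcomm : Commute (cBar ^ j) (bBar ^ t) := (hcb.pow_pow j t)
    have h3 : bBar ^ (3 * t) = 1 := by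
      have := hx
      rw [e, hcomm.mul_pow, ← pow_mul, mul_comm j 3, pow_mul, c_cube, one_pow, one_mul,
        ← pow_mul, mul_comm t 3] at this
      exact this
    have hbt : bBar ^ t = 1 := by
      calc bBar ^ t = bBar ^ (12 * t) * (bBar ^ (11 * t))⁻¹ := by
            rw [eq_mul_inv_iff_mul_eq, ← pow_add]; congr 1; ring
        _ = 1 := by
          rw [show 12 * t = 3 * t * 4 by ring, pow_mul, h3, one_pow, pow_mul, hb11, one_pow,
            inv_one, one_mul]
    rw [hbt, mul_one, pow_eq_pow_mod j c_cube] at e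
    have hj : j % 3 = 0 ∨ j % 3 = 1 ∨ j % 3 = 2 := by omega
    rcases hj with h0 | h0 | h0 <;> rw [h0] at e
    · exact absurd (by simpa using e) hx1
    · exact Or.inl (by simpa using e)
    · exact Or.inr (by rw [e, pow_two, cc_eq])
  · exfalso
    have hflip : eBar * cBar ^ j * eBar = (cBar ^ j)⁻¹ := by
      have hc' : eBar * cBar * eBar⁻¹ = cBar⁻¹ := by
        rw [inv_eq_of_mul_eq_one_right ee, ece]
      rw [← inv_pow, ← hc', conj_pow, inv_eq_of_mul_eq_one_right ee]
    have hcbt : Commute (cBar ^ j * eBar) (bBar ^ t) :=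
      ((hcb.pow_pow j t).mul_left (heb.pow_right t))
    have hsq : (cBar ^ j * eBar) ^ 2 = 1 := by
      rw [pow_two, mul_assoc, ← mul_assoc eBar, hflip, mul_inv_cancel]
    have h6 : cBar ^ j * eBar * bBar ^ (3 * t) = 1 := by
      have := hx
      rw [e, hcbt.mul_pow, pow_succ, hsq, one_mul, ← pow_mul, mul_comm t 3] at this
      exact this
    have he : eBar = (cBar ^ j)⁻¹ * (bBar ^ (3 * t))⁻¹ := by
      rw [eq_mul_inv_iff_mul_eq]
      exact eq_inv_of_mul_eq_one_right (by rw [← mul_assoc, h6])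
    have hce : Commute eBar cBar := by
      rw [he]
      exact ((Commute.self_pow cBar j).symm.inv_left).mul_left
        ((hcb.symm.pow_left (3 * t)).inv_left)
    have h2 := ece
    rw [hce.eq, mul_assoc, ee, mul_one] at h2
    have h4 : cBar * cBar = 1 := eq_inv_iff_mul_eq_one.1 h2
    exact c_ne_one (by rw [← c_cube, pow_succ, pow_two, h4, one_mul])

/-! ### The relator -/

/-- the relator -/
def relW {K : Type*} [Group K] (b x y : K) : K := (y * b * x * y * y * x) ^ 6

theorem actsAs_relW {x y : Co0} {X Y : List Stp} (hx : ActsAs x (runP X))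
    (hy : ActsAs y (runP Y)) : ActsAs (relW bEl x y) (runP (relP X Y)) :=
  actsAs_pow (actsAs_mul (actsAs_mul (actsAs_mul (actsAs_mul (actsAs_mul hy actsAs_b) hx) hy) hy)
    hx) 6

theorem map_relW {K L : Type*} [Group K] [Group L] (f : K →* L) (b x y : K) :
    f (relW b x y) = relW (f b) (f x) (f y) := by
  simp only [relW, map_pow, map_mul]

theorem relW_ne {x y : Co0} {X Y : List Stp} (hx : ActsAs x (runP X)) (hy : ActsAs y (runP Y))
    (h : (!stdOne (runF (relP X Y) base64) ||
      !(decide (runF (relP X Y) base64 = base64) ||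
        decide (runF (relP X Y) base64 = base64.map fun a => -a))) = true) :
    relW bBar (prj x) (prj y) ≠ 1 := by
  simp only [runF_eq] at h
  intro hone
  rw [bBar, ← map_relW] at hone
  have he := actsAs_relW hx hy eTop
  rw [lOf_eTop] at he
  have hmem : relW bEl x y ∈ crossStab := by
    rcases eq_one_or_neg hone with e | e <;> rw [e]
    exacts [one_mem _, monoEl_mem_crossStab _]
  rw [← stdOne_iff, actsAs_relW hx hy, lOf_eTop] at hmem
  rw [hmem] at h
  simp only [Bool.not_true, Bool.false_or, Bool.not_eq_true', Bool.or_eq_false_iff,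
    decide_eq_false_iff_not] at h
  rcases eq_one_or_neg hone with e | e <;> rw [e] at he
  · rw [one_smul, lOf_eTop] at he; exact h.1 he.symm
  · rw [negEl_smul] at he
    refine h.2 (he.symm.trans ?_)
    rw [← lOf_eTop, lOf, lOf, List.map_map]
    rfl

theorem rel_bar : relW bBar aBar cBar = 1 := by
  rw [bBar, aBar, cBar, ← map_relW,
    eq_of_sameOK (actsAs_relW actsAs_a actsAs_c) actsAs_one rel_holds, map_one]

theorem images (φ : MulAut Cfsg.Spor.Co1) (hb : φ bBar = bBar)
    (ha : φ aBar = aBar ∨ φ aBar = aBar⁻¹) (hc : φ cBar * bBar = bBar ^ 1 * φ cBar) :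
    φ aBar = aBar ∧ φ cBar = cBar := by
  rw [pow_one] at hc
  have hrel : relW bBar (φ aBar) (φ cBar) = 1 := by
    have h := map_relW φ.toMonoidHom bBar aBar cBar
    rw [rel_bar, map_one] at h
    simpa [hb] using h.symm
  have hy := three_elements (φ cBar) (by rw [← map_pow, c_cube, map_one])
    (fun h => c_ne_one (φ.injective (h.trans (map_one φ).symm))) hc
  have hf := rel_fails
  simp only [List.all_cons, List.all_nil, Bool.and_true, Bool.and_eq_true] at hf
  rcases ha with ha | ha <;> rcases hy with hy | hy <;> rw [ha, hy] at hrel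
  · exact ⟨ha, hy⟩
  · refine absurd hrel ?_
    rw [aBar, cBar, ← map_inv, show cEl⁻¹ = cEl * cEl from inv_eq_of_mul_eq_one_left
      (eq_of_sameOK (actsAs_mul actsAs_cc actsAs_c) actsAs_one (by decide +kernel))]
    exact relW_ne actsAs_a actsAs_cc hf.2.1
  · refine absurd hrel ?_
    rw [aBar, cBar, ← map_inv]
    exact relW_ne actsAs_a' actsAs_c hf.1
  · refine absurd hrel ?_
    rw [aBar, cBar, ← map_inv, ← map_inv, show cEl⁻¹ = cEl * cEl from inv_eq_of_mul_eq_one_left
      (eq_of_sameOK (actsAs_mul actsAs_cc actsAs_c) actsAs_one (by decide +kernel))]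
    exact relW_ne actsAs_a' actsAs_cc hf.2.2

/-! ### Generation -/

/-- the preimage of the subgroup generated by the three elements -/
noncomputable def genH : Subgroup Co0 :=
  (Subgroup.closure ({aBar, bBar, cBar} : Set Cfsg.Spor.Co1)).comap prj

theorem aEl_mem : aEl ∈ genH := Subgroup.subset_closure (Or.inl rfl)

theorem bEl_mem : bEl ∈ genH := Subgroup.subset_closure (Or.inr (Or.inl rfl))

theorem cEl_mem : cEl ∈ genH := Subgroup.subset_closure (Or.inr (Or.inr rfl))

theorem negEl_mem : negEl ∈ genH := by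
  rw [genH, Subgroup.mem_comap, prj_negEl]; exact one_mem _

/-- the letters -/
noncomputable def letEl (i : ℕ) : Co0 :=
  [aEl, aEl⁻¹, bEl, bEl⁻¹, cEl, cEl * cEl].getD i 1

/-- programs of the letters -/
def letP (i : ℕ) : List Stp :=
  [progA, progA', progB, progB', progC, progC ++ progC].getD i []

theorem letEl_spec : ∀ i, letEl i ∈ genH ∧ ActsAs (letEl i) (runP (letP i))
  | 0 => ⟨aEl_mem, actsAs_a⟩
  | 1 => ⟨inv_mem aEl_mem, actsAs_a'⟩
  | 2 => ⟨bEl_mem, actsAs_b⟩
  | 3 => ⟨inv_mem bEl_mem, actsAs_b'⟩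
  | 4 => ⟨cEl_mem, actsAs_c⟩
  | 5 => ⟨mul_mem cEl_mem cEl_mem, actsAs_cc⟩
  | _ + 6 => ⟨one_mem _, actsAs_one⟩

theorem exists_word : ∀ w : List ℕ, ∃ g ∈ genH, ActsAs g (runP (w.map letP).flatten)
  | [] => ⟨1, one_mem _, actsAs_one⟩
  | i :: w => by
    obtain ⟨g, hg, hga⟩ := exists_word w
    exact ⟨g * letEl i, mul_mem hg (letEl_spec i).1, by
      rw [List.map_cons, List.flatten_cons]; exact actsAs_mul hga (letEl_spec i).2⟩

theorem monoWord_ok : sameOK (monoWord.map letP).flatten [Stp.mono monoA monoS] = true := by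
  decide +kernel

theorem mono_ok : (Stp.mono monoA monoS).ok = true := by decide +kernel

theorem sign12_ok : sameOK (List.replicate 12 [Stp.mono monoA monoS]).flatten
    [Stp.mono idP signS] = true ∧ inCode signS = true ∧ signS < 2 ^ 24 ∧ pop signS = 16 := by
  decide +kernel

theorem permPart_top : permPart genH = ⊤ ∧ ∃ c, SignPart genH c ∧ c ≠ ∅ ∧ c ≠ Finset.univ := by
  obtain ⟨p, hp0⟩ := exists_mono_of_ok mono_ok
  have hp : ActsAs (monoEl p) (runP [Stp.mono monoA monoS]) := hp0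
  obtain ⟨g, hg, hga⟩ := exists_word monoWord
  have hgp : g = monoEl p := eq_of_sameOK hga hp monoWord_ok
  subst hgp
  refine ⟨?_, ?_⟩
  · set Q : Subgroup (Equiv.Perm GolayPt) := (permPart genH).map M24.subtype with hQ
    have hA : (tA : Equiv.Perm GolayPt) ∈ Q := ⟨tA, ⟨_, aEl_mem⟩, rfl⟩
    have hB : (tB : Equiv.Perm GolayPt) ∈ Q := ⟨tB, ⟨_, bEl_mem⟩, rfl⟩
    have hP : (p.1 : Equiv.Perm GolayPt) ∈ Q := ⟨p.1, ⟨p.2, hg⟩, rfl⟩
    obtain ⟨τ, hτ⟩ := exists_rep (show isPermP monoA = true by decide +kernel)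
    have hp1 : (p.1 : Equiv.Perm GolayPt)⁻¹ = τ := by
      obtain ⟨σ, hσ, hr⟩ := exists_rep_M24 (show isM24P monoA = true by decide +kernel)
      obtain rfl := hr.inj hτ
      have hs : toSet monoS ∈ supports (golayCode : Set (GolayPt → ZMod 2)) :=
        toSet_supports_of_inCode (by decide +kernel) (by decide +kernel)
      have := eq_of_sameOK hp (actsAs_monoEl (p := (⟨σ⁻¹, inv_mem hσ⟩, ⟨toSet monoS, hs⟩))
        (by simpa using hr) rfl) (by simp [sameOK])
      rw [monoEl_injective this]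
      simp
    have hτi : Rep τ⁻¹ monoAi := by
      obtain ⟨ρ, hρ⟩ := exists_rep (show isPermP monoAi = true by decide +kernel)
      have h1 : τ * ρ = 1 := (eqP_iff (hτ.mul hρ) rep_idP).1 (by decide +kernel)
      rwa [inv_eq_of_mul_eq_one_right h1]
    have hrep : ∀ i, ([(tA : Equiv.Perm GolayPt), (tA : Equiv.Perm GolayPt)⁻¹, tB,
        (tB : Equiv.Perm GolayPt)⁻¹, τ, τ⁻¹].getD i 1 ∈ Q ∧
        Rep ([(tA : Equiv.Perm GolayPt), (tA : Equiv.Perm GolayPt)⁻¹, tB,
          (tB : Equiv.Perm GolayPt)⁻¹, τ, τ⁻¹].getD i 1)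
        ([gTa, gTi, gBa, gBi, monoA, monoAi].getD i idP)) := by
      intro i
      rcases i with _ | _ | _ | _ | _ | _ | i <;>
        simp only [List.getD_cons_zero, List.getD_cons_succ, List.getD_nil]
      exacts [⟨hA, rep_tA⟩, ⟨inv_mem hA, rep_tA_inv⟩, ⟨hB, rep_tB⟩, ⟨inv_mem hB, rep_tB_inv⟩,
        ⟨hp1 ▸ inv_mem hP, hτ⟩, ⟨inv_mem (hp1 ▸ inv_mem hP), hτi⟩, ⟨one_mem _, rep_idP⟩]
    have hword : ∀ (σ : Equiv.Perm GolayPt) (a : ℕ) (w : List ℕ), Rep σ a →
        eqP a (evalW [gTa, gTi, gBa, gBi, monoA, monoAi] w) = true → σ ∈ Q := by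
      intro σ a w hσ he
      rw [(eqP_iff hσ (rep_evalW (fun i => (hrep i).2) w)).1 he]
      refine list_prod_mem fun x hx => ?_
      obtain ⟨i, -, rfl⟩ := List.mem_map.1 hx
      exact (hrep i).1
    have hle : m24Gen ≤ Q := by
      rw [m24Gen, Subgroup.closure_le]
      rintro x (rfl | rfl | rfl)
      · exact hA
      · exact hword _ gIa wordI rep_projInv (by decide +kernel)
      · exact hword _ gCa wordC rep_cubeTwist (by decide +kernel)
    refine eq_top_iff.2 fun σ _ => ?_
    obtain ⟨τ', hτ', e⟩ := hle (m24Gen_eq.symm ▸ σ.2 : (σ : Equiv.Perm GolayPt) ∈ m24Gen)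
    rwa [← Subtype.ext e]
  · obtain ⟨hsame, hc, hlt, hpop⟩ := sign12_ok
    have hs : toSet signS ∈ supports (golayCode : Set (GolayPt → ZMod 2)) :=
      toSet_supports_of_inCode hc hlt
    have e : monoEl p ^ 12 = epsEl ⟨toSet signS, hs⟩ :=
      eq_of_sameOK (actsAs_pow hp 12)
        (actsAs_monoEl (by simpa using rep_idP) rfl) hsame
    refine ⟨_, ⟨hs, e ▸ pow_mem hg 12⟩, fun h => ?_, fun h => ?_⟩
    · have := congrArg Finset.card h
      rw [card_toSet, hpop] at this
      simp at this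
    · have := congrArg Finset.card h
      rw [card_toSet, hpop, Finset.card_univ, card_golayPt] at this
      norm_num at this

theorem signPart_smul {c : Finset GolayPt} (h : SignPart genH c) (σ : ↥M24) :
    SignPart genH ((σ : Equiv.Perm GolayPt) • c) := by
  obtain ⟨hc, hck⟩ := h
  obtain ⟨d, hd⟩ : σ ∈ permPart genH := permPart_top.1 ▸ Subgroup.mem_top _
  refine ⟨smul_supports σ.2 hc, ?_⟩
  convert mul_mem (mul_mem hd hck) (inv_mem hd) using 1
  rw [eq_mul_inv_iff_mul_eq, epsEl, epsEl, monoEl_mul, monoEl_mul]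
  congr 1
  refine Prod.ext (by simp) (Subtype.ext ?_)
  simp [symmDiff_comm]

theorem signPart_all {d : Finset GolayPt}
    (hd : d ∈ supports (golayCode : Set (GolayPt → ZMod 2))) : SignPart genH d := by
  have huniv : SignPart genH Finset.univ := ⟨univ_supports, negEl_mem⟩
  obtain ⟨c, h, h0, h1⟩ := permPart_top.2
  obtain ⟨w, hw, hwc⟩ := h.1
  have hcard : c.card = hammingNorm w := by rw [hammingNorm_eq_card_support₂, hwc]
  obtain ⟨o, ho, hoK⟩ : ∃ o ∈ octads, SignPart genH o := by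
    rcases weight_cases hw with e | e | e | e | e <;> rw [e] at hcard
    · exact absurd (Finset.card_eq_zero.1 hcard) h0
    · exact ⟨c, ⟨h.1, hcard⟩, h⟩
    · obtain ⟨hi, hp, hx⟩ := dodec_pair
      have hdd : toSet 11472927 ∈ dodecads :=
        ⟨toSet_supports_of_inCode hi (by norm_num), by rw [card_toSet, hp]⟩
      obtain ⟨g, hg, hge⟩ := exists_smul_dodecad (d := c) ⟨h.1, hcard⟩ dodec0_mem
      obtain ⟨g', hg', hge'⟩ := exists_smul_dodecad (d := c) ⟨h.1, hcard⟩ hdd
      have h2 := (signPart_smul h ⟨g, hg⟩).symmDiff (signPart_smul h ⟨g', hg'⟩)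
      rw [show ((⟨g, hg⟩ : ↥M24) : Equiv.Perm GolayPt) • c = toSet dodec0 from hge,
        show ((⟨g', hg'⟩ : ↥M24) : Equiv.Perm GolayPt) • c = toSet 11472927 from hge',
        ← toSet_xor] at h2
      exact ⟨_, ⟨h2.1, by rw [card_toSet, hx]⟩, h2⟩
    · have h2 := h.symmDiff huniv
      refine ⟨_, ⟨h2.1, ?_⟩, h2⟩
      rw [show c ∆ Finset.univ = cᶜ from symmDiff_top c, Finset.card_compl, card_golayPt, hcard]
    · exact absurd (Finset.eq_univ_of_card c (hcard.trans card_golayPt.symm)) h1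
  rw [← toSet_mask d]
  refine spanList_induction (P := fun m => SignPart genH (toSet m)) ?_ ?_ ?_ _
    (mem_supports_iff.1 hd)
  · have h2 := hoK.symmDiff hoK
    rw [symmDiff_self] at h2
    rw [toSet_zero]
    exact h2
  · intro b hb
    obtain ⟨h8, hlt, hin⟩ := basis_octads b (List.mem_reverse.1 hb)
    obtain ⟨g, hg, hge⟩ := exists_smul_octad ho (toSet_mem_octads hin h8 hlt)
    exact hge ▸ signPart_smul hoK ⟨g, hg⟩
  · intro a b ha hb
    rw [toSet_xor]; exact ha.symmDiff hb

theorem genH_eq_top : genH = ⊤ := by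
  have hN : crossStab ≤ genH := fun g hg => by
    obtain ⟨⟨σ, c⟩, rfl⟩ := exists_monoEl_of_mem hg
    obtain ⟨d, hd⟩ : σ ∈ permPart genH := permPart_top.1 ▸ Subgroup.mem_top _
    obtain ⟨hs, hk⟩ := signPart_all (symmDiff_mem_supports c.2 d.2)
    convert mul_mem hk hd using 1
    rw [epsEl, monoEl_mul]
    congr 1
    refine Prod.ext (one_mul _).symm (Subtype.ext ?_)
    show (c : Finset GolayPt) =
      ((c : Finset GolayPt) ∆ d) ∆ ((1 : Equiv.Perm GolayPt) • (d : Finset GolayPt))
    rw [one_smul, symmDiff_symmDiff_cancel_right]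
  rcases isCoatom_crossStab.le_iff.1 hN with h | h
  · exact h
  · exact absurd (h ▸ cEl_mem) cEl_not_mem

theorem generated : Subgroup.closure ({aBar, bBar, cBar} : Set Cfsg.Spor.Co1) = ⊤ := by
  refine eq_top_iff.2 fun x _ => ?_
  obtain ⟨g, rfl⟩ := QuotientGroup.mk'_surjective _ x
  exact (genH_eq_top ▸ Subgroup.mem_top g : g ∈ genH)

theorem out_exps : ∀ j < 23, j ≠ 0 →
    ∃ i < 23, j * 2 ^ i % 23 = 1 ∨ j * 2 ^ i % 23 = 23 - 1 := by decide +kernel

theorem natCard_out : Nat.card (Out Cfsg.Spor.Co1) = 1 := by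
  classical
  haveI : Fact (Nat.Prime 23) := ⟨by norm_num⟩
  haveI : Finite Cfsg.Spor.Co1 :=
    Nat.finite_of_card_ne_zero (by rw [natCard_co1]; norm_num)
  refine le_antisymm ?_ Nat.card_pos
  refine natCard_out_le (κ := Cfsg.Spor.Co1) (p := 23) (s := 2) (k := 1) ?_ orderOf_aBar bab
    (by rw [pow_one]; exact cb) generated ?_ out_exps cent_aBar id
    Function.injective_id [(aBar, cBar)] ?_
  · rw [natCard_co1]; norm_num
  · norm_num
  · intro φ hb ha hc
    obtain ⟨h1, h2⟩ := images φ hb ha hc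
    simp [h1, h2]

end CfsgLib.Spor.Co1Out
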