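import Cfsg.Agent.Lib.Spor.Co1Out.Central

/-!
The relator separating the possible images of the generators, checked on programs.
-/

set_option autoImplicit false
set_option maxRecDepth 100000

namespace CfsgLib.Spor.Co1Out

open Cfsg CfsgLib.Spor

/-- the program of the relator -/
def relP (X Y : List Stp) : List Stp :=
  (List.replicate 6 (X ++ (Y ++ (Y ++ (X ++ (progB ++ Y)))))).flatten

theorem rel_holds : sameOK (relP progA progC) [] = true := by decide +kernel

theorem rel_fails : ([(progA', progC), (progA, progC ++ progC), (progA', progC ++ progC)].all
    fun q => !stdOne (runF (relP q.1 q.2) base64) ||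
      !(decide (runF (relP q.1 q.2) base64 = base64) ||
        decide (runF (relP q.1 q.2) base64 = base64.map fun a => -a))) = true := by decide +kernel

end CfsgLib.Spor.Co1Out
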